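import Cfsg.Agent.H39.Fi22C.Basic
import Cfsg.Agent.H38.U6C.Fix8

/-!
S3232 with two fixed dimensions: the whole involution centraliser read on the model with a fixed
plane, and the parts of the weak closure.
-/

set_option autoImplicit false
set_option maxRecDepth 100000

namespace H64.Fi22C

open H38.U6C

/-- The core `⟨a⟩ × 2^(1+8)` on the model with a fixed plane, with the action of all of `C(z)`; the
inner half `H₀` induces the group generated by products of two reflections. -/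
structure FixA {G : Type*} [Group G] (z a : G) (J H₀ : Subgroup G) (m : Bool) (φ : G → V)
    (ρ : ↥(Subgroup.centralizer ({z} : Set G)) →* Equiv.Perm V) : Prop where
  sq : z * z = 1
  ne_one : z ≠ 1
  a_sq : a * a = 1
  a_out : a ≠ 1 ∧ a ≠ z
  le_cent : H₀ ≤ Subgroup.centralizer ({z} : Set G)
  J_le : J ≤ H₀
  z_mem : z ∈ J
  a_mem : a ∈ J
  a_H₀ : ∀ g ∈ H₀, Commute a g
  conj_a : ∀ g ∈ Subgroup.centralizer ({z} : Set G), g * a * g⁻¹ = a ∨ g * a * g⁻¹ = a * z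
  card_J : Nat.card J = 2 ^ 10
  card_H₀ : Nat.card H₀ = 2 ^ 10 * 25920
  card_cent : Nat.card (Subgroup.centralizer ({z} : Set G)) = 2 ^ 11 * 25920
  conj_mem : ∀ g ∈ Subgroup.centralizer ({z} : Set G), ∀ p ∈ J, g * p * g⁻¹ ∈ J
  conj_H₀ : ∀ g ∈ Subgroup.centralizer ({z} : Set G), ∀ h ∈ H₀, g * h * g⁻¹ ∈ H₀
  φ_mul : ∀ p ∈ J, ∀ q ∈ J, φ (p * q) = vadd (φ p) (φ q)
  φ_surj : ∀ v, ∃ p ∈ J, φ p = v
  φ_ker : ∀ p ∈ J, (φ p = 0 ↔ p = 1 ∨ p = z ∨ p = a ∨ p = a * z)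
  φ_sq : ∀ p ∈ J, p * p = if q8 m (φ p) then z else 1
  φ_comm : ∀ p ∈ J, ∀ q ∈ J, p * q = q * p * if pol8 m (φ p) (φ q) then z else 1
  ρ_φ : ∀ (g : ↥(Subgroup.centralizer ({z} : Set G))) (p : G), p ∈ J →
    φ ((g : G) * p * (g : G)⁻¹) = ρ g (φ p)
  ρ_ker : ∀ g : ↥(Subgroup.centralizer ({z} : Set G)), ρ g = 1 ↔ (g : G) ∈ J
  range₀ : (H₀.subgroupOf (Subgroup.centralizer ({z} : Set G))).map ρ = oGroup
  plane : ∀ (g : ↥(Subgroup.centralizer ({z} : Set G))) (v : V), v.val % 64 = 0 →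
    (ρ g v).val % 64 = 0
  perfect : ∀ f : ↥H₀ →* ℤˣ, (∀ p : ↥H₀, (p : G) ∈ J → f p = 1) → f = 1
  outer : ∃ g : ↥(Subgroup.centralizer ({z} : Set G)), (g : G) ∉ H₀ ∧
    ∀ v : V, v.val < 64 → ρ g v = refl8 3 v
  not_conj : ¬ IsConj z a ∧ ¬ IsConj z (a * z)
  dead : H39.Fi22C.Dead z a ∧ H39.Fi22C.Dead z (a * z)

universe u v

/-- With fixed dimensions `z` is isolated in the centraliser of `a`. -/
def DeadFixStmt : Prop :=
  ∀ {G : Type u} [Group G] [Finite G] {F : Type v} [Field F] [Fintype F] {z a : G}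
    {J H₀ U : Subgroup G} {π : ↥H₀ →* Cfsg.PSp 2 F},
    H39.Fi22C.Setup3 z a J H₀ π → H39.Fi22C.FixJ z a J H₀ U → H39.Fi22C.Dead z a

/-- Coordinates from the data of S3232. -/
def CoordStmt : Prop :=
  ∀ {G : Type u} [Group G] [Finite G] {F : Type v} [Field F] [Fintype F] {z a : G}
    {J H₀ U : Subgroup G} {π : ↥H₀ →* Cfsg.PSp 2 F},
    H39.Fi22C.Setup3 z a J H₀ π → H39.Fi22C.FixJ z a J H₀ U →
    H39.Fi22C.Dead z a → H39.Fi22C.Dead z (a * z) →
    ∃ (m : Bool) (φ : G → V) (ρ : ↥(Subgroup.centralizer ({z} : Set G)) →* Equiv.Perm V),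
      FixA z a J H₀ m φ ρ

/-- The conjugates of `z` commuting with it lie in the inner half. -/
def InnerHyp {G : Type*} [Group G] (z : G) (H₀ : Subgroup G) : Prop :=
  ∀ x ∈ Subgroup.centralizer ({z} : Set G), IsConj z x → x ∈ H₀

/-- A conjugate of `z` commuting with it lies in the inner half. -/
def OuterStmt : Prop :=
  ∀ {G : Type u} [Group G] [Finite G] {z a : G} {J H₀ : Subgroup G} {m : Bool} {φ : G → V}
    {ρ : ↥(Subgroup.centralizer ({z} : Set G)) →* Equiv.Perm V}, FixA z a J H₀ m φ ρ →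
    InnerHyp z H₀

/-- No other conjugate of `z` lies in the core. -/
def JCoreStmt : Prop :=
  ∀ {G : Type u} [Group G] [Finite G] {z a : G} {J H₀ : Subgroup G} {m : Bool} {φ : G → V}
    {ρ : ↥(Subgroup.centralizer ({z} : Set G)) →* Equiv.Perm V}, FixA z a J H₀ m φ ρ →
    InnerHyp z H₀ → ∀ x ∈ J, IsConj z x → x = z

/-- The transfer gives a subgroup of index two. -/
def TransferStmt : Prop :=
  ∀ {G : Type u} [Group G] [Finite G] {z a : G} {J H₀ : Subgroup G} {m : Bool} {φ : G → V}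
    {ρ : ↥(Subgroup.centralizer ({z} : Set G)) →* Equiv.Perm V}, FixA z a J H₀ m φ ρ →
    InnerHyp z H₀ → (∀ x ∈ J, IsConj z x → x = z) →
    ∃ G₁ : Subgroup G, G₁.index = 2 ∧ G₁ ⊓ Subgroup.centralizer ({z} : Set G) = H₀

/-- In the presence of the subgroup of index two `z` is weakly closed (helper18). -/
def GlueStmt : Prop :=
  ∀ {G : Type u} [Group G] [Finite G] {z a : G} {J H₀ : Subgroup G} {m : Bool} {φ : G → V}
    {ρ : ↥(Subgroup.centralizer ({z} : Set G)) →* Equiv.Perm V}, FixA z a J H₀ m φ ρ →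
    ∀ G₁ : Subgroup G, G₁.index = 2 → G₁ ⊓ Subgroup.centralizer ({z} : Set G) = H₀ → WC z

end H64.Fi22C
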