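import Cfsg.Agent.H64.Fi22C.Basic

/-!
S3232 with a fixed plane: a conjugate of `z` commuting with it lies in the inner half (helper64).
If `x = g z g⁻¹` then `y = g⁻¹ z g` centralises in the core a square root of `z` or a pair with
commutator `z`, and conjugation by `g` makes `x` a square or a commutator in `C(z)`.
-/

set_option autoImplicit false
set_option maxRecDepth 100000
set_option linter.unusedSectionVars false

namespace H64.Fi22C

open H38.U6C H18.U6C
open Subgroup (centralizer mem_centralizer_singleton_iff)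

universe u

variable {G : Type*} [Group G] {z a : G} {J H₀ : Subgroup G} {m : Bool} {φ : G → V}
  {ρ : ↥(centralizer ({z} : Set G)) →* Equiv.Perm V}

/-- The centraliser of `y` in the core is not elementary abelian. -/
def NonEl (z : G) (J : Subgroup G) (y : G) : Prop :=
  (∃ s ∈ J, Commute y s ∧ s * s = z) ∨
    ∃ p ∈ J, ∃ q ∈ J, Commute y p ∧ Commute y q ∧ p * q = q * p * z

theorem comm_mul {y p q w : G} (hw : Commute w q) (hq : y * q * y⁻¹ = q * w)
    (hp : y * p * y⁻¹ = p * w) (hww : w * w = 1) : Commute y (p * q) := by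
  refine comm_of_conj ?_
  calc y * (p * q) * y⁻¹ = y * p * y⁻¹ * (y * q * y⁻¹) := by group
    _ = p * (w * q) * w := by rw [hp, hq]; group
    _ = p * q * (w * w) := by rw [hw.eq]; group
    _ = p * q := by rw [hww, mul_one]

variable (S : FixA z a J H₀ m φ ρ)

include S

theorem nonEl_of_le {y b : G} (h : ∀ p ∈ J, Commute p b → Commute y p) (hb : NonEl z J b) :
    NonEl z J y := by
  rcases hb with ⟨s, hs, hbs, hss⟩ | ⟨p, hp, q, hq, hbp, hbq, hpq⟩
  · exact Or.inl ⟨s, hs, h s hs hbs.symm, hss⟩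
  · exact Or.inr ⟨p, hp, q, hq, h p hp hbp.symm, h q hq hbq.symm, hpq⟩

theorem nonEl_of_q {y p : G} (hp : p ∈ J) (hy : Commute y p) (hq : q8 m (φ p) = true) :
    NonEl z J y := Or.inl ⟨p, hp, hy, by rw [S.φ_sq p hp, if_pos hq]⟩

theorem nonEl_pair {y p q : G} (hp : p ∈ J) (hq : q ∈ J) (hyp : Commute y p) (hyq : Commute y q)
    (hp' : φ p = 64) (hq' : φ q = 128) : NonEl z J y :=
  Or.inr ⟨p, hp, q, hq, hyp, hyq, by
    rw [S.φ_comm p hp q hq, hp', hq', if_pos (plane_vals m).2.1]⟩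

/-- An inner involution outside the core. -/
theorem nonEl_inner [Finite G] {b : G} (hb : b ∈ H₀) (hbJ : b ∉ J) (hb2 : b * b = 1) :
    NonEl z J b := by
  obtain ⟨p₁, hp₁, e₁⟩ := S.φ_surj 64
  obtain ⟨p₂, hp₂, e₂⟩ := S.φ_surj 128
  obtain ⟨q192, -, q64, q128, e192⟩ := plane_vals m
  have hzp : ∀ {p : G}, p ∈ J → Commute z p := fun hp => (comm_of_mem (J_cent S hp)).symm
  rcases plane_fix S hp₁ (by rw [e₁]; rfl) hb with t₁ | t₁ <;>
    rcases plane_fix S hp₂ (by rw [e₂]; rfl) hb with t₂ | t₂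
  · exact nonEl_pair S hp₁ hp₂ (comm_of_conj t₁) (comm_of_conj t₂) e₁ e₂
  rotate_right
  · refine nonEl_of_q S (mul_mem hp₁ hp₂) (comm_mul (hzp hp₂) t₂ t₁ S.sq) ?_
    rw [S.φ_mul _ hp₁ _ hp₂, e₁, e₂, e192, q192]
  all_goals
    by_cases hm : m = true
    · first
        | exact nonEl_of_q S hp₁ (comm_of_conj t₁) (by rw [e₁, q64, hm])
        | exact nonEl_of_q S hp₂ (comm_of_conj t₂) (by rw [e₂, q128, hm])
    rw [Bool.not_eq_true] at hm
    obtain ⟨hr, h1, h2⟩ := inner_invol S hb hbJ hb2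
    obtain ⟨-, ⟨s, t, hs64, ht64, hs, ht, qs, qt, qst⟩, -⟩ := invol S hr h1 h2
    -- a low non-singular fixed vector twisted at most by `z`
    obtain ⟨v, hv64, hqv, p, hp, hpv, htw⟩ : ∃ v : V, v.val < 64 ∧ q8 m v = true ∧
        ∃ p ∈ J, φ p = v ∧ (b * p * b⁻¹ = p ∨ b * p * b⁻¹ = p * z) := by
      obtain ⟨ps, hps, rfl⟩ := S.φ_surj s
      obtain ⟨pt, hpt, rfl⟩ := S.φ_surj t
      obtain ⟨ws, hws, hs'⟩ := φ_eq S hps (S.conj_mem b (S.le_cent hb) ps hps)
        (by rw [φ_conj S (S.le_cent hb) hps, hs])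
      obtain ⟨wt, hwt, ht'⟩ := φ_eq S hpt (S.conj_mem b (S.le_cent hb) pt hpt)
        (by rw [φ_conj S (S.le_cent hb) hpt, ht])
      by_cases h : ws = 1 ∨ ws = z
      · exact ⟨_, hs64, qs, ps, hps, rfl, h.imp (fun e => by rw [hs', e, mul_one])
          (fun e => by rw [hs', e])⟩
      by_cases h' : wt = 1 ∨ wt = z
      · exact ⟨_, ht64, qt, pt, hpt, rfl, h'.imp (fun e => by rw [ht', e, mul_one])
          (fun e => by rw [ht', e])⟩
      refine ⟨vadd (φ ps) (φ pt), ?_, qst, ps * pt, mul_mem hps hpt, S.φ_mul _ hps _ hpt, ?_⟩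
      · rw [vadd_val]; exact Nat.xor_lt_two_pow (n := 6) hs64 ht64
      have hc : Commute ws pt := inW_comm S hws (S.J_le hpt)
      have hprod : b * (ps * pt) * b⁻¹ = ps * pt * (ws * wt) := by
        calc b * (ps * pt) * b⁻¹ = b * ps * b⁻¹ * (b * pt * b⁻¹) := by group
          _ = ps * (ws * pt) * wt := by rw [hs', ht']; group
          _ = ps * pt * (ws * wt) := by rw [hc.eq]; group
      have hza := (za_comm S).eq
      push Not at h h'
      rcases hws with e | e | e | e
      · exact absurd e h.1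
      · exact absurd e h.2
      all_goals rcases hwt with e' | e' | e' | e'
      all_goals first
        | exact absurd e' h'.1
        | exact absurd e' h'.2
        | (rw [e, e'] at hprod
           simp only [← mul_assoc, mul_assoc a z a, hza, S.a_sq, S.sq, one_mul, mul_one] at hprod
           first
             | (left; simpa [mul_assoc, S.a_sq, S.sq] using hprod)
             | (right; simpa [mul_assoc, S.a_sq, S.sq] using hprod))
    rcases htw with htw | htw
    · exact nonEl_of_q S hp (comm_of_conj htw) (by rw [hpv, hqv])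
    · first
        | (refine nonEl_of_q S (mul_mem hp hp₂) (comm_mul (hzp hp₂) t₂ htw S.sq) ?_
           rw [S.φ_mul _ hp _ hp₂, hpv, e₂, show (128 : V) = hv 2 from rfl,
             q8_plane_low m 2 v hv64, show hv 2 = (128 : V) from rfl, hqv, q128, hm]
           rfl)
        | (refine nonEl_of_q S (mul_mem hp hp₁) (comm_mul (hzp hp₁) t₁ htw S.sq) ?_
           rw [S.φ_mul _ hp _ hp₁, hpv, e₁, show (64 : V) = hv 1 from rfl,
             q8_plane_low m 1 v hv64, show hv 1 = (64 : V) from rfl, hqv, q64, hm]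
           rfl)

/-- An outer involution exchanging `a` and `az`. -/
theorem nonEl_swap {y : G} (hy : y ∈ centralizer ({z} : Set G)) (hy2 : y * y = 1)
    (hya : y * a * y⁻¹ = a * z) : NonEl z J y := by
  have lift : ∀ v, ρ ⟨y, hy⟩ v = v → ∃ p ∈ J, φ p = v ∧ Commute y p := by
    intro v hv'
    obtain ⟨p, hp, rfl⟩ := S.φ_surj v
    obtain ⟨w, hw, he⟩ := φ_eq S hp (S.conj_mem y hy p hp) (by rw [φ_conj S hy hp, hv'])
    have hyi : y⁻¹ = y := inv_eq_of_mul_eq_one_right hy2
    have hyw : p * w * (y * w * y⁻¹) = p := by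
      calc p * w * (y * w * y⁻¹) = y * p * y⁻¹ * (y * w * y⁻¹) := by rw [he]
        _ = y * (p * w) * y⁻¹ := by group
        _ = y * y * p * (y * y)⁻¹ := by rw [← he]; group
        _ = p := by rw [hy2, one_mul, inv_one, mul_one]
    rw [mul_assoc, mul_eq_left] at hyw
    have hza := (za_comm S).eq
    rcases hw with e | e | e | e
    · exact ⟨p, hp, rfl, comm_of_conj (by rw [he, e, mul_one])⟩
    · refine ⟨p * a, mul_mem hp S.a_mem, ?_, comm_of_conj ?_⟩
      · rw [S.φ_mul p hp a S.a_mem, φ_inW S (Or.inr (Or.inr (Or.inl rfl))), H18.U6C.vadd_zero]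
      · calc y * (p * a) * y⁻¹ = y * p * y⁻¹ * (y * a * y⁻¹) := by group
          _ = p * (z * a) * z := by rw [he, e, hya]; group
          _ = p * a * (z * z) := by rw [hza]; group
          _ = p * a := by rw [S.sq, mul_one]
    · exfalso
      rw [e, hya, ← mul_assoc, S.a_sq, one_mul] at hyw
      exact S.ne_one hyw
    · exfalso
      rw [e, show y * (a * z) * y⁻¹ = y * a * y⁻¹ * (y * z * y⁻¹) by group, hya, conj_z S hy,
        mul_assoc a z z, S.sq, mul_one, mul_assoc a z a, hza, ← mul_assoc, S.a_sq, one_mul] at hyw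
      exact S.ne_one hyw
  set r := ρ ⟨y, hy⟩ with hr
  have hrr : ∀ v, r (r v) = v := fun v => by
    rw [hr, ← Equiv.Perm.mul_apply, ← map_mul,
      show (⟨y, hy⟩ : ↥(centralizer ({z} : Set G))) * ⟨y, hy⟩ = 1 from Subtype.ext hy2, map_one]
    rfl
  have hr0 : r 0 = 0 := by
    have h := ρ_add S ⟨y, hy⟩ 0 0
    rw [H18.U6C.vadd_self, H18.U6C.vadd_self] at h
    exact h
  have hpl : ∀ v : V, v.val % 64 = 0 → ∃ k : Fin 4, r v = hv k := fun v hv' =>
    ⟨hi (r v), by apply Fin.ext; have := S.plane ⟨y, hy⟩ v hv'; rw [← hr] at this; simp only [hv, hi]; omega⟩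
  obtain ⟨i, hi'⟩ := hpl 64 rfl
  obtain ⟨j, hj'⟩ := hpl 128 rfl
  have h192 : r 192 = vadd (hv i) (hv j) := by
    rw [show (192 : V) = vadd 64 128 by decide, hr, ρ_add S, ← hr, hi', hj']
  have inj : ∀ k l : Fin 4, hv k = hv l → k = l := by decide
  have hi0 : i ≠ 0 := fun e => absurd (r.injective ((hi'.trans (by rw [e]; rfl)).trans hr0.symm))
    (by decide)
  have hj0 : j ≠ 0 := fun e => absurd (r.injective ((hj'.trans (by rw [e]; rfl)).trans hr0.symm))
    (by decide)
  have hij : i ≠ j := fun e => absurd (r.injective (hi'.trans (by rw [e]; exact hj'.symm)))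
    (by decide)
  have c1 : i = 1 ∨ i = 2 ∧ j = 1 ∨ i = 3 ∧ j = 2 := by
    have h := hrr 64
    rw [hi'] at h
    fin_cases i
    · exact absurd rfl hi0
    · exact Or.inl rfl
    · refine Or.inr (Or.inl ⟨rfl, inj _ _ ?_⟩)
      rw [← hj']; exact h
    · refine Or.inr (Or.inr ⟨rfl, ?_⟩)
      have h' : vadd (hv 3) (hv j) = (64 : V) := h192.symm.trans h
      revert h'; fin_cases j <;> decide
  have c2 : j = 2 ∨ j = 1 ∧ i = 2 ∨ j = 3 ∧ i = 1 := by
    have h := hrr 128
    rw [hj'] at h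
    fin_cases j
    · exact absurd rfl hj0
    · refine Or.inr (Or.inl ⟨rfl, inj _ _ ?_⟩)
      rw [← hi']; exact h
    · exact Or.inl rfl
    · refine Or.inr (Or.inr ⟨rfl, ?_⟩)
      have h' : vadd (hv i) (hv 3) = (128 : V) := h192.symm.trans h
      revert h'; fin_cases i <;> decide
  rcases plane_map m i j hi0 hj0 hij (by rw [← hi', hr, ρ_q S]) (by rw [← hj', hr, ρ_q S]) c1 c2 with
    ⟨e, e'⟩ | ⟨e, e', q⟩ | ⟨e, q⟩ | ⟨e, q⟩
  · obtain ⟨p, hp, hp', hyp⟩ := lift 64 (hi'.trans e)
    obtain ⟨q, hq, hq', hyq⟩ := lift 128 (hj'.trans e')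
    exact nonEl_pair S hp hq hyp hyq hp' hq'
  · obtain ⟨p, hp, hp', hyp⟩ := lift 192 (show r 192 = 192 by rw [h192, e', e]; decide)
    exact nonEl_of_q S hp hyp (by rw [hp', q])
  · obtain ⟨p, hp, hp', hyp⟩ := lift 64 (hi'.trans e)
    exact nonEl_of_q S hp hyp (by rw [hp', q])
  · obtain ⟨p, hp, hp', hyp⟩ := lift 128 (hj'.trans e)
    exact nonEl_of_q S hp hyp (by rw [hp', q])

/-- A conjugate of `z` commuting with it does not centralise an elementary part of the core. -/
theorem nonEl [Finite G] {y : G} (hy : y ∈ centralizer ({z} : Set G)) (hc : IsConj z y) :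
    NonEl z J y := by
  obtain ⟨k, rfl⟩ := isConj_iff.mp hc
  set y := k * z * k⁻¹ with hydef
  have hy2 : y * y = 1 := by rw [hydef, conj_mul, S.sq, mul_one, mul_inv_cancel]
  have five : ∀ b ∈ J, NonEl z J b := fun b hb => by
    obtain ⟨s, hs, hs', hss⟩ := exists_sq S (K := centralizer ({b} : Set G))
      ((cent_index_le S hb).trans (by norm_num))
    exact Or.inl ⟨s, hs, (comm_of_mem hs').symm, hss⟩
  by_cases hyH : y ∈ H₀
  · by_cases hyJ : y ∈ J
    · exact five y hyJ
    · exact nonEl_inner S hyH hyJ hy2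
  by_cases hsw : ∃ c ∈ centralizer ({z} : Set G), c * a * c⁻¹ = a * z
  · refine nonEl_swap S hy hy2 ((S.conj_a y hy).resolve_left fun he => ?_)
    obtain ⟨c, hcC, hca⟩ := hsw
    have hcH : c ∉ H₀ := fun h => S.ne_one (by
      rw [conj_of_comm (S.a_H₀ c h).symm, eq_comm, mul_eq_left] at hca
      exact hca)
    have h := conj_of_comm (S.a_H₀ _ ((mul_mem_iff S hy hcC).mpr (iff_of_false hyH hcH))).symm
    rw [show y * c * a * (y * c)⁻¹ = y * (c * a * c⁻¹) * y⁻¹ by group, hca,
      show y * (a * z) * y⁻¹ = y * a * y⁻¹ * (y * z * y⁻¹) by group, he, conj_z S hy,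
      mul_eq_left] at h
    exact S.ne_one h
  push Not at hsw
  have hall : ∀ g ∈ centralizer ({z} : Set G), Commute g a := fun g hg =>
    comm_of_conj ((S.conj_a g hg).resolve_right (hsw g hg))
  set a' := k * a * k⁻¹ with ha'
  have hza' : Commute z a' := by
    have h1 : k⁻¹ * z * k ∈ centralizer ({z} : Set G) := by
      refine mem_cent ?_
      have h2 := (comm_of_mem hy).map (MulAut.conj k⁻¹).toMonoidHom
      simpa [hydef, mul_assoc] using h2.symm
    have h3 := (hall _ h1).map (MulAut.conj k).toMonoidHom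
    simpa [ha', mul_assoc] using h3
  have hya' : Commute y a' := by
    simpa [hydef, ha', mul_assoc] using (za_comm S).map (MulAut.conj k).toMonoidHom
  have ha'C : a' ∈ centralizer ({z} : Set G) := mem_cent hza'.symm
  have ha'2 : a' * a' = 1 := by rw [ha', conj_mul, S.a_sq, mul_one, mul_inv_cancel]
  obtain ⟨b, hb, hb2, hyb, hd⟩ : ∃ b ∈ H₀, b * b = 1 ∧ Commute y b ∧ H39.Fi22C.Dead y b := by
    by_cases h : a' ∈ H₀
    · exact ⟨a', h, ha'2, hya', dead_conj k S.dead.1⟩
    · refine ⟨a' * y, (mul_mem_iff S ha'C hy).mpr (iff_of_false h hyH),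
        by rw [hya'.mul_mul_mul_comm, ha'2, hy2, one_mul],
        hya'.mul_right (Commute.refl y), ?_⟩
      have := dead_conj k S.dead.2
      rwa [show k * (a * z) * k⁻¹ = a' * y by rw [ha', hydef]; group] at this
  refine nonEl_of_le S (b := b) (fun p hp hpb => dead_le S hd hy hyb hp hpb) ?_
  by_cases hbJ : b ∈ J
  · exact five b hbJ
  · exact nonEl_inner S hb hbJ hb2

omit S in
/-- A conjugate of `z` commuting with it lies in the inner half. -/
theorem outer : OuterStmt.{u} := by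
  intro G _ _ z a J H₀ m φ ρ S x hx hc
  obtain ⟨g, rfl⟩ := isConj_iff.mp hc
  have hyC : g⁻¹ * z * g ∈ centralizer ({z} : Set G) := by
    refine mem_cent ?_
    have h2 := (comm_of_mem hx).map (MulAut.conj g⁻¹).toMonoidHom
    simpa [mul_assoc] using h2.symm
  have hy : IsConj z (g⁻¹ * z * g) := isConj_iff.mpr ⟨g⁻¹, by rw [inv_inv]⟩
  have hconj : ∀ p, Commute (g⁻¹ * z * g) p → g * p * g⁻¹ ∈ centralizer ({z} : Set G) := by
    intro p hp
    refine mem_cent ?_
    simpa [mul_assoc] using hp.symm.map (MulAut.conj g).toMonoidHom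
  rcases nonEl S hyC hy with ⟨s, -, hys, hss⟩ | ⟨p, -, q, -, hyp, hyq, hpq⟩
  · rw [← hss, ← conj_mul]
    exact sq_mem_H₀ S (hconj s hys)
  · have hp' := hconj p hyp
    have hq' := hconj q hyq
    rw [show g * z * g⁻¹ = (g * q * g⁻¹ * (g * p * g⁻¹))⁻¹ * (g * p * g⁻¹ * (g * q * g⁻¹)) by
      rw [conj_mul, conj_mul, hpq]; group]
    refine (mul_mem_iff S (inv_mem (mul_mem hq' hp')) (mul_mem hp' hq')).mpr ?_
    rw [Subgroup.inv_mem_iff, mul_mem_iff S hq' hp', mul_mem_iff S hp' hq']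
    exact ⟨fun h => h.symm, fun h => h.symm⟩

end H64.Fi22C
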