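import Cfsg.Agent.H64.Fi22C.Facts

/-!
Basic facts for S3232 with a fixed plane (helper64); the Sylow argument follows
`H18.Fi22C.exists_conj_T`.
-/

set_option autoImplicit false
set_option maxRecDepth 100000
set_option linter.unusedSectionVars false

namespace H64.Fi22C

open scoped Pointwise
open H38.U6C H18.U6C
open Subgroup (centralizer mem_centralizer_singleton_iff)

/-- The elements of the centre of the core. -/
def InW {G : Type*} [Group G] (z a r : G) : Prop := r = 1 ∨ r = z ∨ r = a ∨ r = a * z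

/-- The isolation transported by conjugation. -/
theorem dead_conj {G : Type*} [Group G] {z e : G} (g : G) (h : H39.Fi22C.Dead z e) :
    H39.Fi22C.Dead (g * z * g⁻¹) (g * e * g⁻¹) := by
  refine ⟨fun k h1 h2 => ?_, fun P hP h1 h2 p hp => ?_⟩
  · have h3 := h.1 (g⁻¹ * k * g) (by simpa [mul_assoc] using h1.map (MulAut.conj g⁻¹).toMonoidHom)
      (by simpa [mul_assoc] using h2.map (MulAut.conj g⁻¹).toMonoidHom)
    calc k * (g * z * g⁻¹) * k⁻¹ = g * (g⁻¹ * k * g * z * (g⁻¹ * k * g)⁻¹) * g⁻¹ := by group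
      _ = _ := by rw [h3]
  · have h3 := h.2 (P.map (MulAut.conj g⁻¹).toMonoidHom) (hP.map _)
      (by rintro _ ⟨q, hq, rfl⟩; simpa [mul_assoc] using (h1 q hq).map (MulAut.conj g⁻¹).toMonoidHom)
      (by rintro _ ⟨q, hq, rfl⟩; exact ⟨_, h2 q hq, by simp [mul_assoc]⟩)
      (g⁻¹ * p * g) ⟨p, hp, by simp⟩
    simpa [mul_assoc] using h3.map (MulAut.conj g).toMonoidHom

variable {G : Type*} [Group G] {z a : G} {J H₀ : Subgroup G} {m : Bool} {φ : G → V}
  {ρ : ↥(centralizer ({z} : Set G)) →* Equiv.Perm V}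

theorem mem_cent {g x : G} (h : Commute g x) : g ∈ centralizer ({x} : Set G) :=
  mem_centralizer_singleton_iff.mpr h.eq

theorem comm_of_mem {g x : G} (h : g ∈ centralizer ({x} : Set G)) : Commute g x :=
  mem_centralizer_singleton_iff.mp h

theorem conj_of_comm {g x : G} (h : Commute g x) : g * x * g⁻¹ = x := by
  rw [h.eq, mul_inv_cancel_right]

theorem comm_of_conj {g x : G} (h : g * x * g⁻¹ = x) : Commute g x :=
  mul_inv_eq_iff_eq_mul.mp h

variable (S : FixA z a J H₀ m φ ρ)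

include S

theorem J_cent {p : G} (hp : p ∈ J) : p ∈ centralizer ({z} : Set G) := S.le_cent (S.J_le hp)

theorem a_cent : a ∈ centralizer ({z} : Set G) := J_cent S S.a_mem

theorem za_comm : Commute z a := (S.a_H₀ z (S.J_le S.z_mem)).symm

theorem conj_z {g : G} (hg : g ∈ centralizer ({z} : Set G)) : g * z * g⁻¹ = z :=
  conj_of_comm (comm_of_mem hg)

theorem az_ne : a * z ≠ 1 := fun h => S.a_out.2 (by
  rw [← mul_one a, ← S.sq, ← mul_assoc, h, one_mul])

theorem inW_mem {r : G} (h : InW z a r) : r ∈ J := by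
  rcases h with rfl | rfl | rfl | rfl
  exacts [one_mem J, S.z_mem, S.a_mem, mul_mem S.a_mem S.z_mem]

theorem inW_comm {r h : G} (hr : InW z a r) (hh : h ∈ H₀) : Commute r h := by
  have hz : Commute z h := (comm_of_mem (S.le_cent hh)).symm
  rcases hr with rfl | rfl | rfl | rfl
  exacts [Commute.one_left h, hz, S.a_H₀ h hh, (S.a_H₀ h hh).mul_left hz]

theorem inW_sq {r : G} (h : InW z a r) : r * r = 1 := by
  rcases h with rfl | rfl | rfl | rfl
  exacts [one_mul 1, S.sq, S.a_sq,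
    by rw [(za_comm S).mul_mul_mul_comm, S.a_sq, S.sq, one_mul]]

theorem φ_one : φ 1 = 0 := (S.φ_ker 1 (one_mem J)).mpr (Or.inl rfl)

theorem φ_inW {r : G} (h : InW z a r) : φ r = 0 := (S.φ_ker r (inW_mem S h)).mpr h

theorem φ_inv {p : G} (hp : p ∈ J) : φ p⁻¹ = φ p := by
  have h := S.φ_mul p hp p⁻¹ (inv_mem hp)
  rw [mul_inv_cancel, φ_one S] at h
  exact (vadd_eq_zero h.symm).symm

theorem φ_eq {p q : G} (hp : p ∈ J) (hq : q ∈ J) (h : φ p = φ q) :
    ∃ r, InW z a r ∧ q = p * r := by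
  refine ⟨p⁻¹ * q, (S.φ_ker _ (mul_mem (inv_mem hp) hq)).mp ?_, (mul_inv_cancel_left p q).symm⟩
  rw [S.φ_mul _ (inv_mem hp) _ hq, φ_inv S hp, h, H18.U6C.vadd_self]

theorem conj_eq {p q : G} (hp : p ∈ J) (hq : q ∈ J) :
    p * q * p⁻¹ = q * if pol8 m (φ p) (φ q) = true then z else 1 := by
  rw [S.φ_comm p hp q hq]
  split_ifs
  · rw [mul_assoc, mul_assoc, ← mul_assoc p, (comm_of_mem (J_cent S hp)).eq]
    group
  · group

theorem commute_iff {p q : G} (hp : p ∈ J) (hq : q ∈ J) :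
    Commute p q ↔ pol8 m (φ p) (φ q) = false := by
  have h := S.φ_comm p hp q hq
  cases hpq : pol8 m (φ p) (φ q)
  · rw [hpq] at h
    exact ⟨fun _ => rfl, fun _ => by simpa [Commute, SemiconjBy] using h⟩
  · rw [hpq] at h
    refine ⟨fun hc => ?_, fun hc => by simp at hc⟩
    rw [hc.eq] at h
    exact absurd (by simpa using h.symm) S.ne_one

theorem centre {p : G} (hp : p ∈ J) (h : ∀ q ∈ J, Commute p q) : InW z a p := by
  refine (S.φ_ker p hp).mp ?_
  by_contra h0
  obtain ⟨k, hk⟩ := pol8_nondeg m (φ p) h0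
  obtain ⟨q, hq, he⟩ := S.φ_surj (Fin.ofNat 256 (2 ^ k.val))
  rw [← he, (commute_iff S hp hq).mp (h q hq)] at hk
  exact Bool.noConfusion hk

theorem relIndex_two : H₀.relIndex (centralizer ({z} : Set G)) = 2 := by
  have h1 := Subgroup.card_mul_index (H₀.subgroupOf (centralizer ({z} : Set G)))
  rw [Nat.card_congr (Subgroup.subgroupOfEquivOfLe S.le_cent).toEquiv, S.card_H₀,
    S.card_cent] at h1
  show (H₀.subgroupOf _).index = 2
  omega

theorem mul_mem_iff {g h : G} (hg : g ∈ centralizer ({z} : Set G))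
    (hh : h ∈ centralizer ({z} : Set G)) : g * h ∈ H₀ ↔ (g ∈ H₀ ↔ h ∈ H₀) :=
  Subgroup.mul_mem_iff_of_index_two (relIndex_two S) (a := ⟨g, hg⟩) (b := ⟨h, hh⟩)

theorem sq_mem_H₀ {g : G} (hg : g ∈ centralizer ({z} : Set G)) : g * g ∈ H₀ :=
  (mul_mem_iff S hg hg).mpr Iff.rfl

theorem inner_mem {g : G} (hg : g ∈ H₀) : ρ ⟨g, S.le_cent hg⟩ ∈ oGroup :=
  S.range₀ ▸ ⟨⟨g, S.le_cent hg⟩, hg, rfl⟩

theorem φ_conj {g p : G} (hg : g ∈ centralizer ({z} : Set G)) (hp : p ∈ J) :
    φ (g * p * g⁻¹) = ρ ⟨g, hg⟩ (φ p) := S.ρ_φ ⟨g, hg⟩ p hp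

theorem ρ_fix {g p : G} (hg : g ∈ centralizer ({z} : Set G)) (hp : p ∈ J) (h : Commute g p) :
    ρ ⟨g, hg⟩ (φ p) = φ p := by rw [← φ_conj S hg hp, conj_of_comm h]

theorem ρ_add (g : ↥(centralizer ({z} : Set G))) (v w : V) :
    ρ g (vadd v w) = vadd (ρ g v) (ρ g w) := by
  obtain ⟨p, hp, rfl⟩ := S.φ_surj v
  obtain ⟨q, hq, rfl⟩ := S.φ_surj w
  rw [← S.φ_mul p hp q hq, ← S.ρ_φ g _ (mul_mem hp hq), ← S.ρ_φ g p hp, ← S.ρ_φ g q hq,
    ← S.φ_mul _ (S.conj_mem _ g.2 p hp) _ (S.conj_mem _ g.2 q hq)]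
  congr 1
  group

theorem ρ_q (g : ↥(centralizer ({z} : Set G))) (v : V) : q8 m (ρ g v) = q8 m v := by
  obtain ⟨p, hp, rfl⟩ := S.φ_surj v
  have h1 := S.φ_sq _ (S.conj_mem _ g.2 p hp)
  rw [conj_mul, S.φ_sq p hp, S.ρ_φ g p hp] at h1
  cases ha : q8 m (φ p) <;> cases hb : q8 m (ρ g (φ p)) <;> simp only [ha, hb, if_true,
    if_false, Bool.false_eq_true, conj_z S g.2, mul_one, mul_inv_cancel] at h1 ⊢
  · exact absurd h1.symm S.ne_one
  · exact absurd h1 S.ne_one

theorem ρ_pol (g : ↥(centralizer ({z} : Set G))) (v w : V) :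
    pol8 m (ρ g v) (ρ g w) = pol8 m v w := by
  simp only [pol8, ← ρ_add S, ρ_q S]

theorem low_mem (g : ↥(centralizer ({z} : Set G))) {v : V} (hv' : v.val < 64) :
    (ρ g v).val < 64 := by
  have key : ∀ w : V, w.val % 64 = 0 → pol8 m (ρ g v) w = false := by
    intro w hw
    have h1 : ρ g (ρ g⁻¹ w) = w := by
      rw [← Equiv.Perm.mul_apply, ← map_mul, mul_inv_cancel, map_one]; rfl
    have h2 := S.plane g⁻¹ w hw
    rw [← h1, ρ_pol S, ← lv_of_lt hv']
    have h3 : ρ g⁻¹ w = H18.U6C.hv (hi (ρ g⁻¹ w)) := by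
      apply Fin.ext; simp only [H18.U6C.hv, hi]; omega
    rw [h3]
    exact (pol8_lh m _ _).1
  exact low_of_perp m _ (key 64 (by decide)) (key 128 (by decide))

theorem inner_plane {g : G} (hg : g ∈ H₀) {v : V} (hv' : v.val % 64 = 0) :
    ρ ⟨g, S.le_cent hg⟩ v = v := by
  have h3 : v = H18.U6C.hv (hi v) := by
    apply Fin.ext; simp only [H18.U6C.hv, hi]; omega
  rw [h3]
  exact (good (inner_mem S hg)).2 _

/-- An inner element twists a lift of the plane at most by `z`. -/
theorem plane_fix {u g : G} (hu : u ∈ J) (hu' : (φ u).val % 64 = 0) (hg : g ∈ H₀) :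
    g * u * g⁻¹ = u ∨ g * u * g⁻¹ = u * z := by
  classical
  let d : ↥H₀ → G := fun k => u⁻¹ * ((k : G) * u * (k : G)⁻¹)
  have hd : ∀ k, InW z a (d k) := fun k => by
    obtain ⟨r, hr, he⟩ := φ_eq S hu (S.conj_mem _ (S.le_cent k.2) u hu)
      (by rw [φ_conj S (S.le_cent k.2) hu, inner_plane S k.2 hu'])
    show InW z a (u⁻¹ * ((k : G) * u * (k : G)⁻¹))
    rw [he, inv_mul_cancel_left]; exact hr
  have hmul : ∀ k l, d (k * l) = d k * d l := by
    intro k l
    have hc := (inW_comm S (hd l) k.2).symm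
    calc d (k * l) = u⁻¹ * ((k : G) * (u * d l) * (k : G)⁻¹) := by
          simp only [d, Subgroup.coe_mul]; group
      _ = u⁻¹ * ((k : G) * u * (k : G)⁻¹ * ((k : G) * d l * (k : G)⁻¹)) := by group
      _ = d k * d l := by rw [hc.eq, mul_inv_cancel_right]; simp only [d, mul_assoc]
  let Ev : G → Prop := fun r => r = 1 ∨ r = z
  have hEv : ∀ r s, InW z a r → InW z a s → (Ev (r * s) ↔ (Ev r ↔ Ev s)) := by
    have hz1 := S.ne_one
    have ha1 := S.a_out.1
    have ha2 := S.a_out.2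
    have e1 : z * a = a * z := (za_comm S).eq
    have n1 := az_ne S
    have n2 : a * z ≠ z := fun h => ha1 (mul_eq_right.mp h)
    intro r s hr hs
    rcases hr with e | e | e | e <;> rcases hs with e' | e' | e' | e' <;> rw [e, e'] <;>
      simp [Ev, S.sq, S.a_sq, e1, ← mul_assoc, hz1, ha1, ha2, n1, n2, mul_assoc a z z,
        mul_assoc a z a]
  let f : ↥H₀ →* ℤˣ :=
    MonoidHom.mk' (fun k => if Ev (d k) then 1 else -1) fun k l => by
      have := hEv _ _ (hd k) (hd l)
      simp only [hmul]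
      by_cases h1 : Ev (d k) <;> by_cases h2 : Ev (d l) <;> simp [h1, h2, this]
  have hf : f = 1 := S.perfect f fun p hp => by
    refine if_pos ?_
    show Ev (u⁻¹ * ((p : G) * u * (p : G)⁻¹))
    rw [conj_eq S hp hu, inv_mul_cancel_left]
    split_ifs
    exacts [Or.inr rfl, Or.inl rfl]
  have h1 : (if Ev (d ⟨g, hg⟩) then (1 : ℤˣ) else -1) = 1 := DFunLike.congr_fun hf ⟨g, hg⟩
  have h2 : Ev (d ⟨g, hg⟩) := by
    by_contra h2
    rw [if_neg h2] at h1
    exact absurd h1 (by decide)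
  rcases h2 with h2 | h2
  · exact Or.inl (inv_mul_eq_one.mp h2).symm
  · exact Or.inr (inv_mul_eq_iff_eq_mul.mp h2)

/-- An element centralised by `x` is centralised by what is isolated with it. -/
theorem dead_le {x e p : G} (hd : H39.Fi22C.Dead x e) (hx : x ∈ centralizer ({z} : Set G))
    (he : Commute x e) (hp : p ∈ J) (hpe : Commute p e) : Commute x p := by
  refine hd.2 (J ⊓ centralizer ({e} : Set G)) ((IsPGroup.of_card S.card_J).to_le inf_le_left)
    (fun q hq => comm_of_mem hq.2) (fun q hq => ⟨S.conj_mem _ hx q hq.1,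
      mem_cent ((he.mul_left (comm_of_mem hq.2)).mul_left he.inv_left)⟩) p ⟨hp, mem_cent hpe⟩

/-- Two elements of the core flipping `p` differ by one commuting with it. -/
theorem cent_relIndex {p : G} (hp : p ∈ J) {q q' : G} (hq : q ∈ J) (hq' : q' ∈ J)
    (h : ¬ Commute q p) (h' : ¬ Commute q' p) : Commute (q⁻¹ * q') p := by
  have key : ∀ q ∈ J, ¬ Commute q p → q * p * q⁻¹ = p * z := by
    intro q hq h
    rw [conj_eq S hq hp, if_pos]
    by_contra hpol
    exact h ((commute_iff S hq hp).mpr (Bool.eq_false_iff.mpr hpol))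
  refine comm_of_conj ?_
  have e1 : q⁻¹ * (p * z) * q = p := by rw [← key q hq h]; group
  calc q⁻¹ * q' * p * (q⁻¹ * q')⁻¹ = q⁻¹ * (q' * p * q'⁻¹) * q := by group
    _ = p := by rw [key q' hq' h', e1]

/-- Among five suitable elements of the core two differ by a square root of `z` in a subgroup of
index at most four. -/
theorem exists_sq {K : Subgroup G} (h : (K.subgroupOf J).index ≤ 4) [Finite G] :
    ∃ s ∈ J, s ∈ K ∧ s * s = z := by
  choose j hj hjv using fun i => S.φ_surj (H64.U6E.five i)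
  let f : Fin 5 → ↥J ⧸ K.subgroupOf J := fun i => QuotientGroup.mk ⟨j i, hj i⟩
  obtain ⟨i, k, hik, he⟩ : ∃ i k, i ≠ k ∧ f i = f k := by
    by_contra hno
    push Not at hno
    have h5 := Nat.card_le_card_of_injective f fun i k he => by_contra fun hne => hno i k hne he
    rw [Nat.card_eq_fintype_card, Fintype.card_fin] at h5
    exact absurd (h5.trans h) (by omega)
  refine ⟨(j i)⁻¹ * j k, mul_mem (inv_mem (hj i)) (hj k), ?_, ?_⟩
  · have h3 : (⟨j i, hj i⟩ : ↥J)⁻¹ * ⟨j k, hj k⟩ ∈ K.subgroupOf J := QuotientGroup.eq.mp he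
    exact h3
  · rw [S.φ_sq _ (mul_mem (inv_mem (hj i)) (hj k)), if_pos]
    rw [S.φ_mul _ (inv_mem (hj i)) _ (hj k), φ_inv S (hj i), hjv, hjv]
    exact H64.U6E.five_sing m i k hik

variable [Finite G]

theorem cent_index_le {p : G} (hp : p ∈ J) :
    ((centralizer ({p} : Set G)).subgroupOf J).index ≤ 2 := by
  classical
  have : Fintype (↥J ⧸ (centralizer ({p} : Set G)).subgroupOf J) := Fintype.ofFinite _
  have hinj : Function.Injective
      (fun c : ↥J ⧸ (centralizer ({p} : Set G)).subgroupOf J => decide (Commute (c.out : G) p)) := by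
    intro c d h
    rw [← QuotientGroup.out_eq' c, ← QuotientGroup.out_eq' d, QuotientGroup.eq]
    refine mem_cent ?_
    by_cases hc : Commute (c.out : G) p
    · have hd : Commute (d.out : G) p := by simpa [hc] using h.symm
      exact hc.inv_left.mul_left hd
    · have hd : ¬ Commute (d.out : G) p := by simpa [hc] using h.symm
      exact cent_relIndex S hp c.out.2 d.out.2 hc hd
  have := Nat.card_le_card_of_injective _ hinj
  rw [Nat.card_eq_fintype_card (α := Bool), Fintype.card_bool] at this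
  exact this

theorem card_oGroup : Nat.card oGroup = 25920 := by
  let f : ↥(H₀.subgroupOf (centralizer ({z} : Set G))) →* Equiv.Perm V :=
    ρ.comp (Subgroup.subtype _)
  have hr : f.range = oGroup := by
    rw [MonoidHom.range_comp, Subgroup.range_subtype, S.range₀]
  have hk : Nat.card f.ker = 2 ^ 10 := by
    rw [← S.card_J]
    exact Nat.card_congr
      { toFun := fun (x : f.ker) =>
          (⟨(((x : ↥(H₀.subgroupOf (centralizer ({z} : Set G)))) :
              ↥(centralizer ({z} : Set G))) : G),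
            (S.ρ_ker (x : ↥(H₀.subgroupOf (centralizer ({z} : Set G))))).mp
              (MonoidHom.mem_ker.mp x.2)⟩ : ↥J)
        invFun := fun (p : ↥J) =>
          (⟨⟨⟨(p : G), J_cent S p.2⟩, S.J_le p.2⟩,
            MonoidHom.mem_ker.mpr ((S.ρ_ker ⟨(p : G), J_cent S p.2⟩).mpr p.2)⟩ : f.ker)
        left_inv := fun x => rfl
        right_inv := fun p => rfl }
  have h1 := f.ker.card_mul_index
  rw [Subgroup.index_ker, hr, hk, Nat.card_congr (Subgroup.subgroupOfEquivOfLe S.le_cent).toEquiv,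
    S.card_H₀] at h1
  exact Nat.eq_of_mul_eq_mul_left (by norm_num) h1

/-- An involution of the inner group is conjugate into the tables. -/
theorem exists_table {r : Equiv.Perm V} (hr : r ∈ oGroup) (h1 : r ≠ 1) (h2 : r * r = 1) :
    ∃ h ∈ oGroup, ∃ i : Fin 64, i ≠ 0 ∧ perm i = h * r * h⁻¹ ∧
      ∀ v : Fin 64, low i.val (low i.val v.val) = v.val := by
  have hp : IsPGroup 2 (Subgroup.zpowers r) := by
    intro x
    refine ⟨1, Subtype.ext ?_⟩
    obtain ⟨n, hn⟩ := x.2
    have hn' : r ^ n = (x : Equiv.Perm V) := hn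
    simp only [Nat.pow_one, Subgroup.coe_pow, Subgroup.coe_one, ← hn']
    rw [pow_two, ← (Commute.refl r).mul_zpow, h2, one_zpow]
  have hP' : IsPGroup 2 ((Subgroup.zpowers r).subgroupOf oGroup) :=
    hp.comap_of_injective oGroup.subtype (Subgroup.subtype_injective _)
  obtain ⟨Q, hQ⟩ := hP'.exists_le_sylow
  have hc : Nat.card (T.subgroupOf oGroup) = 2 ^ (Nat.card oGroup).factorization 2 := by
    rw [Nat.card_congr (Subgroup.subgroupOfEquivOfLe T_le).toEquiv, card_T, card_oGroup S,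
      show (25920 : ℕ) = 2 ^ 6 * 405 by norm_num,
      Nat.factorization_mul (by norm_num) (by norm_num), Finsupp.add_apply,
      Nat.Prime.factorization_pow Nat.prime_two, Finsupp.single_eq_same,
      Nat.factorization_eq_zero_of_not_dvd (show ¬ 2 ∣ 405 by norm_num)]
    rfl
  obtain ⟨g, hg⟩ := MulAction.exists_smul_eq oGroup Q (Sylow.ofCard (T.subgroupOf oGroup) hc)
  have hxQ : (⟨r, hr⟩ : oGroup) ∈ (Q : Subgroup oGroup) := hQ (Subgroup.mem_zpowers r)
  have h3 := Subgroup.smul_mem_pointwise_smul _ (MulAut.conj g) _ hxQ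
  have h4 : (MulAut.conj g • (Q : Subgroup oGroup)) = T.subgroupOf oGroup :=
    congrArg (fun R : Sylow 2 oGroup => (R : Subgroup oGroup)) hg
  rw [h4] at h3
  obtain ⟨i, hi⟩ : (g : Equiv.Perm V) * r * (g : Equiv.Perm V)⁻¹ ∈ T := h3
  refine ⟨g, g.2, i, ?_, hi, low_of_sq ?_⟩
  · rintro rfl
    rw [perm_zero] at hi
    exact h1 (by simpa using hi.symm)
  · rw [hi]
    calc (g : Equiv.Perm V) * r * (g : Equiv.Perm V)⁻¹ * (g * r * (g : Equiv.Perm V)⁻¹)
        = g * (r * r) * (g : Equiv.Perm V)⁻¹ := by group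
      _ = 1 := by rw [h2, mul_one, mul_inv_cancel]

theorem oGroup_act {h : Equiv.Perm V} (hh : h ∈ oGroup) :
    ∃ g : ↥(centralizer ({z} : Set G)), (g : G) ∈ H₀ ∧ ρ g = h := by
  rw [← S.range₀] at hh
  exact hh

/-- An inner involution fixes 64 vectors, among them a low line of non-singular ones, and its
commutators are the low vectors orthogonal to its fixed vectors. -/
theorem invol {r : Equiv.Perm V} (hr : r ∈ oGroup) (h1 : r ≠ 1) (h2 : r * r = 1) :
    (Finset.univ.filter fun v : V => r v = v).card = 64 ∧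
    (∃ s t : V, s.val < 64 ∧ t.val < 64 ∧ r s = s ∧ r t = t ∧ q8 m s = true ∧ q8 m t = true ∧
      q8 m (vadd s t) = true) ∧
    ∀ w : V, w.val < 64 → (∀ v : V, v.val < 64 → r v = v → pol8 m w v = false) →
      ∃ y : V, vadd (r y) y = w := by
  obtain ⟨h, hh, i, hi0, hi, hsq⟩ := exists_table S hr h1 h2
  have hh' : h⁻¹ ∈ oGroup := inv_mem hh
  obtain ⟨k, -, hk⟩ := oGroup_act S hh'
  have hfix : ∀ v : V, perm i v = v → r (h⁻¹ v) = h⁻¹ v := by
    intro v hv'
    rw [hi] at hv'
    have := congrArg (fun u => h⁻¹ u) hv'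
    simpa [Equiv.Perm.mul_apply] using this
  refine ⟨?_, ?_, ?_⟩
  · have he : (Finset.univ.filter fun v : V => r v = v).card =
        (Finset.univ.filter fun v : V => low i.val (lo v).val = (lo v).val).card := by
      refine Finset.card_nbij' (fun v => h v) (fun v => h⁻¹ v) ?_ ?_ ?_ ?_
      · intro v hv'
        simp only [Finset.coe_filter, Finset.mem_univ, true_and, Set.mem_ofPred_eq] at hv' ⊢
        rw [← perm_fix_iff, hi, conj_fix]; exact hv'
      · intro v hv'
        simp only [Finset.coe_filter, Finset.mem_univ, true_and, Set.mem_ofPred_eq] at hv' ⊢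
        exact hfix v ((perm_fix_iff i v).mpr hv')
      · intro v _; simp
      · intro v _; simp
    rw [he, card_lift (fun a : Fin 64 => low i.val a.val = a.val)]
    have := invol_count i hi0 hsq
    rw [count64] at this
    have he2 : (Finset.univ.filter fun a : Fin 64 => low i.val a.val = a.val) =
        Finset.univ.filter fun a : Fin 64 => (fixTab.getD i.val 0).testBit a.val = true :=
      Finset.filter_congr fun a _ => (fix_spec i a).symm
    rw [he2, this]
  · obtain ⟨s, t, hs, ht, qs, qt, qst⟩ := fixed_line i hi0 hsq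
    refine ⟨h⁻¹ (lv s), h⁻¹ (lv t), good_low hh' s.isLt, good_low hh' t.isLt,
      hfix _ ((perm_fix_iff i _).mpr (by rw [lo_lv]; exact hs)),
      hfix _ ((perm_fix_iff i _).mpr (by rw [lo_lv]; exact ht)), ?_⟩
    rw [← hk, ← ρ_add S, ρ_q S, ρ_q S, ρ_q S, q8_low, q8_low]
    refine ⟨qs, qt, ?_⟩
    have hl : (vadd (lv s) (lv t)).val < 64 := by
      rw [vadd_val]; exact Nat.xor_lt_two_pow (n := 6) s.isLt t.isLt
    rwa [← lv_of_lt hl, q8_low, lv_of_lt hl]
  · intro w hw hperp
    have hw' : (h w).val < 64 := good_low hh hw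
    obtain ⟨k', -, hk'⟩ := oGroup_act S hh
    obtain ⟨y, hy⟩ := perp_spec i hi0 hsq (lo (h w)) fun k₀ => by
      obtain ⟨hlt, hf⟩ := basis_spec i hi0 hsq k₀
      set b : Fin 64 := ⟨fixBasis.getD (4 * i.val + k₀.val) 0, hlt⟩ with hb'
      have hb : Fin.ofNat 256 (fixBasis.getD (4 * i.val + k₀.val) 0) = lv b :=
        Fin.ext (Nat.mod_eq_of_lt (by omega))
      have hp := hperp (h⁻¹ (lv b)) (good_low hh' (show (lv b).val < 64 from b.isLt))
        (hfix (lv b) ((perm_fix_iff i _).mpr (by rw [lo_lv]; exact hf)))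
      rw [← ρ_pol S k', hk', show h (h⁻¹ (lv b)) = lv b from h.apply_symm_apply _,
        ← lv_of_lt hw', pol8_low] at hp
      rw [hb]
      exact hp
    refine ⟨h⁻¹ (lv y), h.injective ?_⟩
    rw [← hk', ρ_add S, hk', show h (h⁻¹ (lv y)) = lv y from h.apply_symm_apply _,
      show h (r (h⁻¹ (lv y))) = perm i (lv y) from by rw [hi]; rfl]
    apply Fin.ext
    rw [vadd_val, perm_apply, app_lv]
    have : (lo (h w)).val = (h w).val := Nat.mod_eq_of_lt hw'
    rw [← this]; exact hy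

theorem inner_invol {y : G} (hy : y ∈ H₀) (hyJ : y ∉ J) (hy2 : y * y = 1) :
    ρ ⟨y, S.le_cent hy⟩ ∈ oGroup ∧ ρ ⟨y, S.le_cent hy⟩ ≠ 1 ∧
      ρ ⟨y, S.le_cent hy⟩ * ρ ⟨y, S.le_cent hy⟩ = 1 := by
  refine ⟨inner_mem S hy, fun h => hyJ ((S.ρ_ker _).mp h), ?_⟩
  rw [← map_mul, ← map_one ρ]
  exact congrArg ρ (Subtype.ext hy2)

/-- An inner involution outside the core centralises at most 256 of its elements, and exactly
that many only if it centralises a lift of each fixed vector. -/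
theorem cent_le {y : G} (hy : y ∈ H₀) (hyJ : y ∉ J) (hy2 : y * y = 1) :
    Nat.card ↥(J ⊓ centralizer ({y} : Set G) : Subgroup G) ≤ 256 ∧
      (Nat.card ↥(J ⊓ centralizer ({y} : Set G) : Subgroup G) = 256 →
        ∀ p ∈ J, ρ ⟨y, S.le_cent hy⟩ (φ p) = φ p → Commute y p) := by
  classical
  have : Fintype G := Fintype.ofFinite G
  obtain ⟨hr, h1, h2⟩ := inner_invol S hy hyJ hy2
  obtain ⟨h64, -, -⟩ := invol S hr h1 h2
  let A : Finset G := Finset.univ.filter fun g => g ∈ J ⊓ centralizer ({y} : Set G)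
  have hA : Nat.card ↥(J ⊓ centralizer ({y} : Set G) : Subgroup G) = A.card := by
    rw [Nat.card_eq_fintype_card, Fintype.card_subtype]
  let B : Finset G := Finset.univ.filter fun g => g ∈ J ∧ ρ ⟨y, S.le_cent hy⟩ (φ g) = φ g
  have hAB : A ⊆ B := by
    intro p hp
    simp only [A, B, Finset.mem_filter, Finset.mem_univ, true_and] at hp ⊢
    exact ⟨hp.1, ρ_fix S _ hp.1 (comm_of_mem hp.2).symm⟩
  have hB : B.card ≤ 256 := by
    refine le_trans (Finset.card_le_mul_card_image (f := φ) B 4 fun v hv' => ?_) ?_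
    · obtain ⟨p, hp, rfl⟩ := Finset.mem_image.mp hv'
      refine le_trans (Finset.card_le_card
        (t := ({p, p * z, p * a, p * (a * z)} : Finset G)) fun q hq => ?_) Finset.card_le_four
      rw [Finset.mem_filter] at hq
      simp only [B, Finset.mem_filter, Finset.mem_univ, true_and] at hq hp
      obtain ⟨r, hr, rfl⟩ := φ_eq S hp.1 hq.1.1 hq.2.symm
      rcases hr with rfl | rfl | rfl | rfl <;> simp
    · have : B.image φ ⊆ Finset.univ.filter fun v : V => ρ ⟨y, S.le_cent hy⟩ v = v := by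
        intro v hv'
        obtain ⟨p, hp, rfl⟩ := Finset.mem_image.mp hv'
        simp only [B, Finset.mem_filter, Finset.mem_univ, true_and] at hp ⊢
        exact hp.2
      have := Finset.card_le_card this
      omega
  refine ⟨by have := Finset.card_le_card hAB; omega, fun he p hp hf => ?_⟩
  have : B = A := (Finset.eq_of_subset_of_card_le hAB (by omega)).symm
  have hpA : p ∈ A := by rw [← this]; simp [B, hp, hf]
  simp only [A, Finset.mem_filter, Finset.mem_univ, true_and] at hpA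
  exact (comm_of_mem hpA.2).symm

end H64.Fi22C
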