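import Cfsg.Agent.H64.Fi22C.Defs
import Cfsg.Agent.H18.U6C.Model
import Cfsg.Agent.H64.U6E.Facts
import Cfsg.Agent.H64.U6E.Tab

/-!
Finite facts for the case of S3232 with a fixed plane (helper64).
-/

set_option autoImplicit false
set_option maxRecDepth 100000

namespace H64.Fi22C

open H38.U6C H18.U6C

/-- For each vector five non-singular vectors orthogonal to it, each on two lines orthogonal to it. -/
def stabTab : List (List (V × V × V)) := [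
  [(3, 13, 17), (7, 11, 17), (11, 7, 17), (13, 3, 18), (16, 32, 33)],
  [(12, 20, 21), (13, 20, 21), (16, 32, 33), (20, 12, 13), (32, 16, 17)],
  [(12, 20, 22), (14, 20, 22), (16, 32, 34), (20, 12, 14), (32, 16, 18)],
  [(7, 11, 24), (11, 7, 20), (16, 32, 36), (20, 11, 12), (32, 16, 20)],
  [(3, 17, 21), (7, 17, 18), (16, 32, 33), (17, 3, 7), (32, 16, 17)],
  [(11, 17, 20), (14, 17, 20), (16, 32, 33), (17, 11, 14), (32, 16, 17)],
  [(11, 18, 20), (13, 18, 20), (16, 32, 34), (18, 11, 13), (32, 16, 18)],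
  [(3, 13, 25), (13, 3, 20), (16, 32, 36), (20, 13, 14), (32, 16, 20)],
  [(3, 17, 25), (11, 17, 18), (16, 32, 33), (17, 3, 11), (32, 16, 17)],
  [(7, 17, 24), (14, 17, 22), (16, 32, 33), (17, 7, 14), (32, 16, 17)],
  [(7, 18, 24), (13, 18, 21), (16, 32, 34), (18, 7, 13), (32, 16, 18)],
  [(3, 13, 21), (13, 3, 21), (16, 32, 37), (21, 3, 13), (32, 16, 21)],
  [(3, 13, 17), (13, 3, 18), (16, 32, 33), (17, 3, 14), (32, 16, 17)],
  [(7, 11, 17), (11, 7, 17), (16, 32, 33), (17, 7, 11), (32, 16, 17)],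
  [(7, 11, 18), (11, 7, 18), (16, 32, 34), (18, 7, 11), (32, 16, 18)],
  [(3, 21, 25), (12, 21, 22), (16, 32, 37), (21, 3, 12), (32, 16, 21)],
  [(3, 13, 17), (7, 11, 17), (11, 7, 17), (13, 3, 18), (17, 3, 7)],
  [(12, 20, 21), (13, 20, 21), (16, 34, 38), (20, 12, 13), (34, 13, 16)],
  [(12, 20, 22), (14, 20, 22), (16, 33, 37), (20, 12, 14), (33, 14, 16)],
  [(3, 33, 37), (7, 11, 24), (11, 7, 20), (16, 33, 34), (33, 3, 7)],
  [(3, 17, 21), (7, 17, 18), (16, 40, 41), (17, 3, 7), (40, 7, 16)],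
  [(11, 17, 20), (14, 17, 20), (16, 34, 38), (17, 11, 14), (34, 11, 16)],
  [(11, 18, 20), (13, 18, 20), (16, 33, 37), (18, 11, 13), (33, 11, 16)],
  [(3, 13, 25), (7, 33, 34), (13, 3, 20), (16, 33, 34), (33, 3, 7)],
  [(3, 17, 25), (11, 17, 18), (16, 36, 37), (17, 3, 11), (36, 11, 16)],
  [(7, 17, 24), (14, 17, 22), (16, 34, 36), (17, 7, 14), (34, 7, 16)],
  [(7, 18, 24), (13, 18, 21), (16, 33, 36), (18, 7, 13), (33, 7, 16)],
  [(3, 13, 21), (11, 33, 34), (13, 3, 21), (16, 33, 34), (33, 3, 11)],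
  [(3, 13, 17), (12, 36, 37), (13, 3, 18), (16, 36, 37), (36, 12, 13)],
  [(7, 11, 17), (11, 7, 17), (13, 34, 36), (16, 34, 36), (34, 7, 11)],
  [(7, 11, 18), (11, 7, 18), (14, 33, 36), (16, 33, 36), (33, 7, 11)],
  [(3, 21, 25), (12, 21, 22), (16, 33, 34), (21, 3, 12), (33, 3, 16)],
  [(3, 13, 33), (7, 11, 33), (11, 7, 33), (13, 3, 34), (33, 3, 7)],
  [(12, 22, 36), (13, 18, 36), (18, 13, 32), (22, 12, 32), (32, 18, 22)],
  [(12, 21, 36), (14, 17, 36), (17, 14, 32), (21, 12, 32), (32, 17, 21)],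
  [(3, 17, 21), (7, 11, 17), (11, 7, 17), (17, 3, 7), (32, 17, 18)],
  [(3, 25, 33), (7, 24, 33), (24, 7, 32), (25, 3, 32), (32, 24, 25)],
  [(11, 18, 33), (14, 22, 33), (18, 11, 32), (22, 14, 32), (32, 18, 22)],
  [(11, 17, 34), (13, 21, 34), (17, 11, 32), (21, 13, 32), (32, 17, 21)],
  [(3, 13, 17), (7, 17, 18), (13, 3, 18), (17, 3, 7), (32, 17, 18)],
  [(3, 21, 33), (11, 20, 33), (20, 11, 32), (21, 3, 32), (32, 20, 21)],
  [(7, 18, 33), (14, 20, 33), (18, 7, 32), (20, 14, 32), (32, 18, 20)],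
  [(7, 17, 34), (13, 20, 34), (17, 7, 32), (20, 13, 32), (32, 17, 20)],
  [(3, 13, 17), (11, 17, 18), (13, 3, 18), (17, 3, 11), (32, 17, 18)],
  [(3, 13, 21), (12, 20, 21), (13, 3, 20), (20, 12, 13), (32, 20, 21)],
  [(7, 11, 18), (11, 7, 18), (13, 18, 20), (18, 7, 11), (32, 18, 20)],
  [(7, 11, 17), (11, 7, 17), (14, 17, 20), (17, 7, 11), (32, 17, 20)],
  [(3, 17, 37), (12, 20, 37), (17, 3, 32), (20, 12, 32), (32, 17, 18)],
  [(3, 13, 49), (7, 11, 49), (11, 7, 49), (13, 3, 50), (49, 3, 7)],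
  [(12, 22, 38), (13, 18, 34), (18, 13, 34), (22, 12, 34), (34, 13, 18)],
  [(12, 21, 37), (14, 17, 33), (17, 14, 33), (21, 12, 33), (33, 14, 17)],
  [(3, 17, 21), (7, 11, 17), (11, 7, 17), (17, 3, 7), (33, 3, 7)],
  [(3, 25, 41), (7, 24, 40), (24, 7, 40), (25, 3, 40), (40, 7, 24)],
  [(11, 18, 34), (14, 22, 38), (18, 11, 34), (22, 14, 34), (34, 11, 18)],
  [(11, 17, 33), (13, 21, 37), (17, 11, 33), (21, 13, 33), (33, 11, 17)],
  [(3, 13, 17), (7, 17, 18), (13, 3, 18), (17, 3, 7), (33, 3, 7)],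
  [(3, 21, 37), (11, 20, 36), (20, 11, 36), (21, 3, 36), (36, 11, 20)],
  [(7, 18, 34), (14, 20, 36), (18, 7, 34), (20, 14, 34), (34, 7, 18)],
  [(7, 17, 33), (13, 20, 36), (17, 7, 33), (20, 13, 33), (33, 7, 17)],
  [(3, 13, 17), (11, 17, 18), (13, 3, 18), (17, 3, 11), (33, 3, 11)],
  [(3, 13, 21), (12, 20, 21), (13, 3, 20), (20, 12, 13), (36, 12, 13)],
  [(7, 11, 18), (11, 7, 18), (13, 18, 20), (18, 7, 11), (34, 7, 11)],
  [(7, 11, 17), (11, 7, 17), (14, 17, 20), (17, 7, 11), (33, 7, 11)],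
  [(3, 17, 33), (12, 20, 36), (17, 3, 33), (20, 12, 33), (33, 3, 17)]]

theorem stab_spec : ∀ d : Fin 64, (stabTab.getD d.val []).length = 5 ∧
    ∀ e ∈ stabTab.getD d.val [],
      (IsRefVec e.1 ∧ IsRefVec e.2.1 ∧ IsRefVec e.2.2) ∧
      (pol6 e.1 e.2.1 = true ∧ pol6 e.1 e.2.2 = true) ∧
      (pol6 e.1 (lv d) = false ∧ pol6 e.2.1 (lv d) = false ∧ pol6 e.2.2 (lv d) = false) ∧
      e.2.2 ≠ e.2.1 ∧ e.2.2 ≠ vadd e.1 e.2.1 := by decide +kernel

/-- The sums of the vectors of a list. -/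
def sums : List V → List V
  | [] => [0]
  | a :: l => sums l ++ (sums l).map (vadd a)

theorem stab_span : ∀ d : Fin 64,
    17 ≤ ((sums ((stabTab.getD d.val []).map Prod.fst)).toFinset).card := by decide +kernel

theorem fixed_line : ∀ i : Fin 64, i ≠ 0 → (∀ v : Fin 64, low i.val (low i.val v.val) = v.val) →
    ∃ a b : Fin 64, low i.val a.val = a.val ∧ low i.val b.val = b.val ∧
      q6 (lv a) = true ∧ q6 (lv b) = true ∧ q6 (vadd (lv a) (lv b)) = true := by decide +kernel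

theorem line_refl : ∀ a b : Fin 64, q6 (lv a) = true → q6 (lv b) = true →
    pol6 (lv a) (lv b) = true →
    refFun (lv a) (refFun (lv b) (lv a)) = lv b := by decide +kernel

theorem plane_three : ∀ m : Bool, ∀ v : V, v.val % 64 = 0 →
    (v = 0 ∨ v = 64 ∨ v = 128 ∨ v = 192) ∧ (v ≠ 0 → m = true → q8 m v = true) := by decide +kernel

theorem plane_vals : ∀ m : Bool, q8 m 192 = true ∧ pol8 m 64 128 = true ∧
    q8 m 64 = m ∧ q8 m 128 = m ∧ vadd 64 128 = (192 : V) := by decide +kernel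

theorem plane_map : ∀ m : Bool, ∀ a b : Fin 4, a ≠ 0 → b ≠ 0 → a ≠ b →
    q8 m (hv a) = q8 m 64 → q8 m (hv b) = q8 m 128 →
    (a = 1 ∨ a = 2 ∧ b = 1 ∨ a = 3 ∧ b = 2) → (b = 2 ∨ b = 1 ∧ a = 2 ∨ b = 3 ∧ a = 1) →
    (hv a = 64 ∧ hv b = 128) ∨ (hv b = 64 ∧ hv a = 128 ∧ q8 m (192 : V) = true) ∨
      (hv a = 64 ∧ q8 m 64 = true) ∨ (hv b = 128 ∧ q8 m 128 = true) := by decide +kernel

theorem q8_low : ∀ m : Bool, ∀ v : Fin 64, q8 m (lv v) = q6 (lv v) := by decide +kernel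

theorem low_of_perp : ∀ m : Bool, ∀ v : V, pol8 m v 64 = false → pol8 m v 128 = false →
    v.val < 64 := by decide +kernel

theorem q8_plane_low : ∀ m : Bool, ∀ k : Fin 4, ∀ v : V, v.val < 64 →
    q8 m (vadd v (hv k)) = (q8 m v != q8 m (hv k)) := by decide +kernel

end H64.Fi22C
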