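import Cfsg.Agent.H18.Fi22C.Assemble
import Cfsg.Agent.H35.Fi22C.JCore

/-!
S3232 with two fixed dimensions: `z` is weakly closed (helper64, helper18, helper35, helper79).
-/

set_option autoImplicit false

namespace H64.Fi22C

universe u v

/-- With fixed dimensions `z` is weakly closed. -/
theorem fixWC : H39.Fi22C.FixWCStmt.{u, v} :=
  H18.Fi22C.fixWC_of_jcore H35.Fi22C.jcore

end H64.Fi22C
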